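import Groth.Agent.CycLib.DivFun
import Mathlib.AlgebraicGeometry.OrderOfVanishing

/-!
Orders of vanishing on an open subscheme.
-/

set_option autoImplicit false
set_option linter.style.haveILetI false
set_option backward.isDefEq.respectTransparency.types false

universe u

open AlgebraicGeometry CategoryTheory IsLocalRing Order

namespace Groth.Agent.OrdOpen

variable {X : Scheme.{u}}

theorem coheight_opens (U : X.Opens) (u : ↥(U : Scheme.{u})) : coheight u = coheight u.1 := by
  have h := ringKrullDim_eq_of_ringEquiv (asIso (U.ι.stalkMap u)).commRingCatIsoToRingEquiv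
  rw [ringKrullDim_stalk_eq_coheight, ringKrullDim_stalk_eq_coheight] at h
  exact_mod_cast h.symm

theorem ord_eq_ordFrac [IsIntegral X] [IsLocallyNoetherian X] {z : X} (hz : coheight z = 1)
    (f : X.functionField) :
    Scheme.ord f z = CycAlg.ordFrac (X.presheaf.stalk z) X.functionField f := by
  haveI hk : Ring.KrullDimLE 1 (X.presheaf.stalk z) := krullDimLE_of_coheight_le hz.le
  rw [Scheme.ord_eq_ordHom_of_coheight_eq_one hz]
  unfold CycAlg.ordFrac
  rw [dif_pos ⟨inferInstance, hk, inferInstance, inferInstance⟩]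
  show Multiplicative.toAdd ((Ring.ordFrac (X.presheaf.stalk z) f).unzeroD 1) = _
  generalize Ring.ordFrac (X.presheaf.stalk z) f = v
  cases v <;> rfl

theorem exists_functionField_equiv [IsIntegral X] [IsLocallyNoetherian X] (U : X.Opens)
    [IsIntegral (U : Scheme.{u})] :
    ∃ φ : X.functionField ≃+* (U : Scheme.{u}).functionField, ∀ (f : X.functionField) (u : ↥(U : Scheme.{u})),
      coheight u = 1 → Scheme.ord (φ f) u = Scheme.ord f u.1 := by
  have hη : U.ι (genericPoint ↥(U : Scheme.{u})) = genericPoint X := genericPoint_eq_of_isOpenImmersion U.ι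
  let s : X.functionField ⟶ (U : Scheme.{u}).functionField :=
    X.presheaf.stalkSpecializes (specializes_of_eq hη) ≫ U.ι.stalkMap (genericPoint ↥(U : Scheme.{u}))
  haveI : IsIso (X.presheaf.stalkSpecializes (specializes_of_eq hη)) := by
    refine ⟨X.presheaf.stalkSpecializes (specializes_of_eq hη.symm), ?_, ?_⟩ <;>
      rw [TopCat.Presheaf.stalkSpecializes_comp] <;> exact TopCat.Presheaf.stalkSpecializes_refl _ _
  let φ := (asIso s).commRingCatIsoToRingEquiv
  refine ⟨φ, fun f u hu => ?_⟩
  have hu' : coheight u.1 = 1 := (coheight_opens U u) ▸ hu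
  rw [ord_eq_ordFrac hu, ord_eq_ordFrac hu']
  refine CycLib.ordFrac_congr (asIso (U.ι.stalkMap u)).commRingCatIsoToRingEquiv φ (fun a => ?_) f
  show U.ι.stalkMap _ (X.presheaf.stalkSpecializes (specializes_of_eq hη)
      (X.presheaf.stalkSpecializes ((genericPoint_spec X).specializes trivial) a)) =
    (U : Scheme.{u}).presheaf.stalkSpecializes ((genericPoint_spec ↥(U : Scheme.{u})).specializes trivial)
      (U.ι.stalkMap u a)
  rw [← Scheme.Hom.stalkSpecializes_stalkMap_apply U.ι (genericPoint ↥(U : Scheme.{u})) u
    ((genericPoint_spec ↥(U : Scheme.{u})).specializes trivial), ← CommRingCat.comp_apply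
      (X.presheaf.stalkSpecializes _) (X.presheaf.stalkSpecializes (specializes_of_eq hη)),
    TopCat.Presheaf.stalkSpecializes_comp]

end Groth.Agent.OrdOpen
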